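import Cfsg.Agent.H891.TE6.Data
import Cfsg.Agent.KFacts.TwESix.Comb

/-!
# Elements of the root groups of `²E₆(2)` (helper891)

* `mem_long`, `mem_short` : the root elements lie in the relative root groups;
* `long_cases`, `short_cases` : the elements of a relative root group.
-/

set_option autoImplicit false
set_option linter.unusedSectionVars false

namespace Cfsg.Agent.H891.TE6

open CoxeterSystem Cfsg.Agent.ChevalleyStructure.CoxeterGeom Cfsg.Agent.Tits.Roots Cfsg.Agent.Tits.Core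
  Cfsg.Agent.Nodes.BNOf Cfsg.Agent.Nodes.RGDTwGen Cfsg.Agent.Nodes.RGDChev Cfsg.Agent.Nodes.RGDFold
open Cfsg.Lie Cfsg.Agent.ChevalleyStructure Cfsg.Agent.ChevalleyStructure.Elts
  Cfsg.Agent.ChevalleyStructure.TwistedU Cfsg.Agent.ChevalleyStructure.TwistedFix
open Cfsg.Agent.ChevalleyStructure.TwE6Basic (sg fix rho sg_x hE6)
open Cfsg.Agent.ChevalleyStructure.GraphSymm
open scoped commutatorElement
open Cfsg.Agent.Nodes.RGDTwE6 Cfsg.Agent.KFacts.TwESix.Comb Cfsg.Agent.H891.TE6.Eng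

universe u

variable {K : Type u} [Field K]

/-! ### the field with four elements -/

theorem exists_omega [Fintype K] [CharP K 2] (hK : Fintype.card K = 2 ^ 2) : ∃ ω : K, ω ^ 2 + ω + 1 = 0 := by
  classical
  have h1 : ∃ ω : K, ω ≠ 0 ∧ ω ≠ 1 := by
    by_contra hcon
    push Not at hcon
    have h2 : (Finset.univ : Finset K) ⊆ {0, 1} := by
      intro x _
      rw [Finset.mem_insert, Finset.mem_singleton]
      by_cases hx : x = 0
      · exact Or.inl hx
      · exact Or.inr (hcon x hx)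
    have h3 := Finset.card_le_card h2
    rw [Finset.card_univ, hK] at h3
    have h4 : ({0, 1} : Finset K).card ≤ 2 := Finset.card_le_two
    omega
  obtain ⟨ω, h0, h2⟩ := h1
  refine ⟨ω, ?_⟩
  have h3 : ω ^ 4 = ω := by
    have := FiniteField.pow_card ω
    rwa [hK] at this
  have h4 : ω * (ω - 1) * (ω ^ 2 + ω + 1) = 0 := by linear_combination h3
  rcases mul_eq_zero.1 h4 with h5 | h5
  · rcases mul_eq_zero.1 h5 with h6 | h6
    · exact absurd h6 h0
    · exact absurd (sub_eq_zero.1 h6) h2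
  · exact h5

theorem elts [Fintype K] [CharP K 2] (hK : Fintype.card K = 2 ^ 2) {ω : K} (hω : ω ^ 2 + ω + 1 = 0) (t : K)
    (ht : t ≠ 0) : ∃ i < 3, t = ω ^ i := by
  have h3 : t ^ 4 = t := by
    have := FiniteField.pow_card t
    rwa [hK] at this
  have h4 : ω ^ 3 = 1 := pow_three hω
  have h5 : t * ((t - 1) * ((t - ω) * (t - ω ^ 2))) = 0 := by
    linear_combination h3 - t ^ 3 * hω + ω * t ^ 2 * hω - t * h4
  rcases mul_eq_zero.1 h5 with h6 | h6
  · exact absurd h6 ht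
  rcases mul_eq_zero.1 h6 with h7 | h7
  · exact ⟨0, by norm_num, by rw [pow_zero]; exact sub_eq_zero.1 h7⟩
  rcases mul_eq_zero.1 h7 with h8 | h8
  · exact ⟨1, by norm_num, by rw [pow_one]; exact sub_eq_zero.1 h8⟩
  · exact ⟨2, by norm_num, sub_eq_zero.1 h8⟩

/-! ### the endomorphism -/

theorem eps_pm : ∀ r : Fin 72, TwE6Basic.epsE r = 1 ∨ TwE6Basic.epsE r = -1 := by decide +kernel

theorem sg_x2 [CharP K 2] (φ : K →+* K) (r : Fin 72) (t : K) :
    sg φ (xG hE6 r.val t) = xG hE6 (rho r).val (φ t) := by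
  have h := sg_x φ r t
  have h1 : ((symmE6.ε r : ℤ) : K) = 1 := by
    rcases eps_pm r with h2 | h2
    · have h3 : symmE6.ε r = 1 := h2
      rw [h3, Int.cast_one]
    · have h3 : symmE6.ε r = -1 := h2
      rw [h3, Int.cast_neg, Int.cast_one]
      exact CharTwo.neg_eq 1
  rw [h1, one_mul] at h
  exact h

theorem comm_rho : ∀ r : Fin 72, rho r = r ∨ ((rho r).val ≠ r.val ∧ (rho r).val ≠ chevE6.neg r.val ∧
    chevE6.commTerms r.val (rho r).val = []) := by decide +kernel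

theorem V_rho : ∀ r : Fin 72, V chevE6 J (rho r).val = V chevE6 J r.val := by decide +kernel

theorem commute_rho (r : Fin 72) (t s : K) : xG hE6 r.val t * xG hE6 (rho r).val s =
    xG hE6 (rho r).val s * xG hE6 r.val t := by
  rcases comm_rho r with h | ⟨h1, h2, h3⟩
  · rw [h, xG_add, xG_add, add_comm]
  · exact (commute_of_nil hp r.2 (rho r).2 h1 h2 h3 t s).eq

section mem

variable [CharP K 2] {φ : K →+* K}

theorem one_mem_long {r : Fin 72} (hr : rho r = r) :
    xG hE6 r.val (1 : K) ∈ R chevE6 hp K J (sg φ) (V chevE6 J r.val) := by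
  refine ⟨mem_rspan (xG (F := K) hp.inList) (S := {k | k < chevE6.nroots ∧ V chevE6 J k = V chevE6 J r.val})
    ⟨r.2, rfl⟩ 1, ?_⟩
  show sg φ (xG hE6 r.val 1) = xG hE6 r.val 1
  rw [sg_x2, hr, map_one]

theorem mem_short (r : Fin 72) {t s : K} (hφ : ∀ x, φ x = x ^ 2) (hts : s = t ^ 2) (hst : t = s ^ 2) :
    xG hE6 r.val t * xG hE6 (rho r).val s ∈ R chevE6 hp K J (sg φ) (V chevE6 J r.val) := by
  refine ⟨mul_mem (mem_rspan (xG (F := K) hp.inList)
    (S := {k | k < chevE6.nroots ∧ V chevE6 J k = V chevE6 J r.val}) ⟨r.2, rfl⟩ t)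
    (mem_rspan (xG (F := K) hp.inList)
    (S := {k | k < chevE6.nroots ∧ V chevE6 J k = V chevE6 J r.val}) ⟨(rho r).2, V_rho r⟩ s), ?_⟩
  show sg φ (xG hE6 r.val t * xG hE6 (rho r).val s) = xG hE6 r.val t * xG hE6 (rho r).val s
  rw [map_mul, sg_x2, sg_x2, TwE6Basic.rho_rho, hφ, hφ, ← hts, ← hst, commute_rho]

/-- the elements of a long relative root group -/
theorem long_cases (r : Fin 72) (hr : rho r = r) (hV : ∀ k < chevE6.nroots, (V chevE6 J k = V chevE6 J r.val ↔ k ∈ [r.val]))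
    (hφ : ∀ x, φ x = x ^ 2) {g : GL chevE6.Idx K} (hg : g ∈ R chevE6 hp K J (sg φ) (V chevE6 J r.val)) :
    g = 1 ∨ g = xG hE6 r.val 1 := by
  rw [R_eq hV (fun k hk => by rw [List.mem_singleton.1 hk]; exact r.2)] at hg
  obtain ⟨h1, h2⟩ := hg
  obtain ⟨t, ht⟩ := exists_lprod (x := xG (F := K) hp.inList) (fun r t u => (xG_add hp.inList r t u).symm)
    (List.nodup_singleton _) ⟨by simp, trivial⟩ h1
  have h3 : g = xG hE6 r.val (t r.val) := by
    rw [ht, lprod_cons, lprod_nil, mul_one]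
  have h4 : sg φ g = g := h2
  rw [h3, sg_x2, hr, hφ] at h4
  have h5 : (t r.val) ^ 2 = t r.val := TwE6Basic.x_injective r.2 h4
  have h6 : t r.val * (t r.val - 1) = 0 := by linear_combination h5
  rcases mul_eq_zero.1 h6 with h7 | h7
  · left
    rw [h3, h7]
    exact xG_zero hE6 _
  · right
    rw [h3, sub_eq_zero.1 h7]

/-- the elements of a short relative root group -/
theorem short_cases [Fintype K] (hK : Fintype.card K = 2 ^ 2) {ω : K} (hω : ω ^ 2 + ω + 1 = 0) (r : Fin 72)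
    (hr : r.val ≠ (rho r).val)
    (hV : ∀ k < chevE6.nroots, (V chevE6 J k = V chevE6 J r.val ↔ k ∈ [r.val, (rho r).val]))
    (hne : ∀ i < 3, xG hE6 r.val (ω ^ i) ≠ xG hE6 (rho r).val (ω ^ (2 * i % 3)))
    (hφ : ∀ x, φ x = x ^ 2) {g : GL chevE6.Idx K} (hg : g ∈ R chevE6 hp K J (sg φ) (V chevE6 J r.val)) :
    g = 1 ∨ ∃ i < 3, g = xG hE6 r.val (ω ^ i) * xG hE6 (rho r).val (ω ^ (2 * i % 3)) := by
  have h4 : ∀ t : K, t ^ 4 = t := fun t => by
    have := FiniteField.pow_card t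
    rwa [hK] at this
  rw [R_eq hV (fun k hk => by
    rcases List.mem_cons.1 hk with rfl | hk
    · exact r.2
    · rw [List.mem_singleton.1 hk]; exact (rho r).2)] at hg
  obtain ⟨h1, h2⟩ := hg
  have hgood : Good (xG (F := K) hp.inList) [r.val, (rho r).val] := by
    refine ⟨fun s hs t u => ?_, ⟨by simp, trivial⟩⟩
    rw [List.mem_singleton] at hs
    subst hs
    have : ⁅xG (F := K) hp.inList r.val t, xG hp.inList (rho r).val u⁆ = 1 := by
      rw [commutatorElement_eq_one_iff_mul_comm]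
      exact commute_rho r t u
    rw [this]
    exact one_mem _
  obtain ⟨c, hc⟩ := exists_lprod (x := xG (F := K) hp.inList) (fun r t u => (xG_add hp.inList r t u).symm)
    (by simp [hr]) hgood h1
  obtain ⟨t, ht⟩ : ∃ t, t = c r.val := ⟨_, rfl⟩
  obtain ⟨s, hs⟩ : ∃ s, s = c (rho r).val := ⟨_, rfl⟩
  have h3 : g = xG hE6 r.val t * xG hE6 (rho r).val s := by
    rw [hc, lprod_cons, lprod_cons, lprod_nil, mul_one, ht, hs]
  have h5 : sg φ g = g := h2
  rw [h3, map_mul, sg_x2, sg_x2, TwE6Basic.rho_rho, hφ, hφ, ← commute_rho] at h5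
  -- `x_r(s ^ 2 - t) = x_ρ(s - t ^ 2)`
  have h6 : xG hE6 r.val (s ^ 2 - t) = xG hE6 (rho r).val (s - t ^ 2) := by
    have e1 : xG hE6 r.val (s ^ 2 - t) = xG hE6 r.val (s ^ 2) * (xG hE6 r.val t)⁻¹ := by
      rw [xG_inv, xG_add, sub_eq_add_neg]
    have e2 : xG hE6 (rho r).val (s - t ^ 2) = xG hE6 (rho r).val s * (xG hE6 (rho r).val (t ^ 2))⁻¹ := by
      rw [xG_inv, xG_add, sub_eq_add_neg]
    have e3 := commute_rho r (s ^ 2) (t ^ 2)
    rw [e1, e2]
    have e4 : xG hE6 r.val (s ^ 2) * xG hE6 (rho r).val (t ^ 2) = xG hE6 (rho r).val s * xG hE6 r.val t := by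
      rw [h5, commute_rho]
    have e5 : xG hE6 r.val (s ^ 2) = xG hE6 (rho r).val s * xG hE6 r.val t * (xG hE6 (rho r).val (t ^ 2))⁻¹ := by
      rw [← e4, mul_inv_cancel_right]
    rw [e5]
    have e6 : xG hE6 r.val t * (xG hE6 (rho r).val (t ^ 2))⁻¹ = (xG hE6 (rho r).val (t ^ 2))⁻¹ * xG hE6 r.val t := by
      rw [xG_inv]; exact commute_rho r _ _
    rw [mul_assoc (xG hE6 (rho r).val s), e6]
    group
  have h7 : s ^ 2 - t = 0 := by
    by_contra h0
    obtain ⟨i, hi, e⟩ := elts hK hω _ h0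
    apply hne i hi
    rw [← e, h6]
    congr 1
    have h8 : (s ^ 2 - t) ^ 2 = s - t ^ 2 := by
      have h9 := h4 s
      have h10 : (2 : K) = 0 := CharTwo.two_eq_zero
      linear_combination h9 + (t ^ 2 - s ^ 2 * t) * h10
    rw [← h8, e, ← pow_mul, mul_comm i 2]
    conv_lhs => rw [← Nat.mod_add_div (2 * i) 3, pow_add, pow_mul, pow_three hω, one_pow, mul_one]
  have h8 : t = s ^ 2 := (sub_eq_zero.1 h7).symm
  have h9 : s = t ^ 2 := by rw [h8, ← pow_mul]; exact (h4 s).symm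
  by_cases ht0 : t = 0
  · left
    rw [h3, h9, ht0, zero_pow two_ne_zero, xG_zero, xG_zero, mul_one]
  · right
    obtain ⟨i, hi, e⟩ := elts hK hω t ht0
    refine ⟨i, hi, ?_⟩
    rw [h3, h9, e, ← pow_mul, mul_comm i 2]
    congr 2
    conv_lhs => rw [← Nat.mod_add_div (2 * i) 3, pow_add, pow_mul, pow_three hω, one_pow, mul_one]

end mem

end Cfsg.Agent.H891.TE6
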