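import Cfsg.Agent.H891.TE6.Eng

/-!
# Words in root elements over the field with four elements: checks (helper891)

* `eq_of_chk` : equality of two elements from the images of the basis vectors;
* `dvd_orderOf` : `p ∣ orderOf g` from a vector with `ξ g ^ p = ξ ≠ ξ g`.
-/

set_option autoImplicit false
set_option linter.unusedSectionVars false

namespace Cfsg.Agent.H891.TE6.Eng

open Cfsg Cfsg.Lie Cfsg.Agent.Th.E8Recipe Cfsg.Agent.ChevalleyStructure.Elts
open scoped Matrix

deriving instance DecidableEq for Ltr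

variable {D : ChevalleyDatum} {K : Type*} [Field K] [CharP K 2] {ω : K}

theorem bt_ne_omega (hω : ω ^ 2 + ω + 1 = 0) {b0 b1 c0 c1 : Bool}
    (h : bt K b0 + bt K b1 * ω = bt K c0 + bt K c1 * ω) : b0 = c0 ∧ b1 = c1 := by
  have h1 : (1 : K) ≠ 0 := one_ne_zero
  have h2 : (1 : K) + 1 = 0 := CharTwo.add_self_eq_zero 1
  have n0 : ω ≠ 0 := by
    rintro rfl
    apply h1
    linear_combination hω
  have n1 : ω ≠ 1 := by
    rintro rfl
    apply h1
    linear_combination hω - h2
  cases b0 <;> cases b1 <;> cases c0 <;> cases c1 <;> simp [bt] at h ⊢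
  all_goals first
    | exact absurd h n0
    | exact absurd h.symm n0
    | exact absurd h n1
    | exact absurd h.symm n1
    | (apply n1; linear_combination h - h2)
    | (apply n1; linear_combination (-1 : K) * h - h2)

/-- the codes differ in the coordinate `k` -/
def neqAt (s s' k : ℕ) : Bool :=
  (s.testBit (2 * k) != s'.testBit (2 * k)) || (s.testBit (2 * k + 1) != s'.testBit (2 * k + 1))

theorem val_ne (hω : ω ^ 2 + ω + 1 = 0) {s s' k : ℕ} (h : neqAt s s' k = true) : val ω s k ≠ val ω s' k := by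
  intro h1
  obtain ⟨h2, h3⟩ := bt_ne_omega hω h1
  unfold neqAt at h
  rw [h2, h3] at h
  simp at h

omit [CharP K 2] in
theorem val_basis (k j : ℕ) : val ω (Nat.shiftLeft 1 (2 * k)) j = if j = k then 1 else 0 := by
  have e : ∀ i, (Nat.shiftLeft 1 (2 * k)).testBit i = decide (i = 2 * k) := by
    intro i
    have : Nat.shiftLeft 1 (2 * k) = 2 ^ (2 * k) := by
      have := Nat.one_shiftLeft (2 * k)
      exact this
    rw [this, Nat.testBit_two_pow]
    simp [eq_comm]
  unfold val
  rw [e, e]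
  have h1 : decide (2 * j + 1 = 2 * k) = false := by simp; omega
  rw [h1, bt_false, zero_mul, add_zero]
  by_cases h : j = k
  · subst h
    simp [bt]
  · have h2 : decide (2 * j = 2 * k) = false := by simp; omega
    rw [h2, bt_false, if_neg h]

/-- the check of equality -/
def chkEq (D : ChevalleyDatum) (f f' : ℕ → ℕ) : Bool :=
  (List.range (D.rank + D.nroots)).all fun k => Nat.beq (f (Nat.shiftLeft 1 (2 * k))) (f' (Nat.shiftLeft 1 (2 * k)))

/-- `f` is the action of the word `w` -/
def Acts (D : ChevalleyDatum) (w : List (ℕ × ℕ)) (f : ℕ → ℕ) : Prop :=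
  (∀ p ∈ w, okL D p.1 = true) ∧ ∀ s, f s = run (msk (D.rank + D.nroots)) (ltrs D w) s

theorem Acts.append {w w' : List (ℕ × ℕ)} {f f' : ℕ → ℕ} (h : Acts D w f) (h' : Acts D w' f') :
    Acts D (w ++ w') (fun s => force (f s) f') := by
  refine ⟨fun p hp => ?_, fun s => ?_⟩
  · rcases List.mem_append.1 hp with h1 | h1
    · exact h.1 p h1
    · exact h'.1 p h1
  · have h2 : ltrs D (w ++ w') = ltrs D w ++ ltrs D w' := by unfold ltrs; rw [List.map_append]
    show force (f s) f' = _
    rw [force_eq, h'.2, h.2, h2, run_append]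

theorem Acts.nil : Acts D [] (fun s => s) := ⟨fun _ h => absurd h List.not_mem_nil, fun _ => rfl⟩

/-- iteration with evaluation -/
def itf (f : ℕ → ℕ) : ℕ → ℕ → ℕ
  | 0, s => s
  | n + 1, s => force (f s) (itf f n)

theorem Acts.iter {w : List (ℕ × ℕ)} {f : ℕ → ℕ} (h : Acts D w f) (n : ℕ) :
    Acts D (List.replicate n w).flatten (itf f n) := by
  induction n with
  | zero => exact Acts.nil
  | succ n ih =>
    rw [List.replicate_succ, List.flatten_cons]
    exact h.append ih

theorem Acts.of_ltrs {w : List (ℕ × ℕ)} {l : List Ltr} {M : ℕ} (hM : msk (D.rank + D.nroots) = M)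
    (hok : (w.all fun p => okL D p.1) = true) (h : ltrs D w = l) : Acts D w (run M l) :=
  ⟨fun p hp => List.all_eq_true.1 hok p hp, fun s => by rw [h, hM]⟩

variable (hD : InList D)

omit [CharP K 2] in
theorem wdG_flatten (w : List (ℕ × ℕ)) (n : ℕ) : wdG ω hD (List.replicate n w).flatten = wdG ω hD w ^ n := by
  induction n with
  | zero => rfl
  | succ n ih => rw [List.replicate_succ, List.flatten_cons, wdG_append, ih, pow_succ']

theorem vecMul_acts (hω : ω ^ 2 + ω + 1 = 0) {w : List (ℕ × ℕ)} {f : ℕ → ℕ} (h : Acts D w f) (s : ℕ) :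
    (fun a : D.Idx => val ω s (code D a)) ᵥ* ((wdG ω hD w : GL D.Idx K) : Matrix D.Idx D.Idx K) =
      fun a : D.Idx => val ω (f s) (code D a) := by
  rw [vecMul_wdG hD hω w h.1 s, h.2]

/-- **equality of two elements** -/
theorem eq_of_chk (hω : ω ^ 2 + ω + 1 = 0) {w w' : List (ℕ × ℕ)} {f f' : ℕ → ℕ} (h : Acts D w f)
    (h' : Acts D w' f') (hc : chkEq D f f' = true) : wdG ω hD w = wdG ω hD w' := by
  apply Units.ext
  ext a b
  have hb : (fun b : D.Idx => val ω (Nat.shiftLeft 1 (2 * code D a)) (code D b)) = Pi.single a (1 : K) := by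
    funext b
    rw [val_basis, Pi.single_apply]
    by_cases hab : b = a
    · rw [if_pos hab, if_pos (by rw [hab])]
    · rw [if_neg hab, if_neg fun h => hab (code_injective h)]
  have h1 := vecMul_acts hD hω h (Nat.shiftLeft 1 (2 * code D a))
  have h2 := vecMul_acts hD hω h' (Nat.shiftLeft 1 (2 * code D a))
  rw [hb, Matrix.single_one_vecMul] at h1 h2
  have h3 : f (Nat.shiftLeft 1 (2 * code D a)) = f' (Nat.shiftLeft 1 (2 * code D a)) := by
    unfold chkEq at hc
    rw [List.all_eq_true] at hc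
    exact Nat.eq_of_beq_eq_true (hc (code D a) (List.mem_range.2 (code_lt a)))
  rw [h3, ← h2] at h1
  exact congrFun h1 b

/-- the check of the order -/
def chkOrd (D : ChevalleyDatum) (f : ℕ → ℕ) (p : ℕ) : Bool :=
  force (f 1) fun s => ((List.range (D.rank + D.nroots)).any fun k => neqAt s 1 k) && Nat.beq (itf f (p - 1) s) 1

omit [CharP K 2] in
theorem dvd_of_vec {A : GL D.Idx K} {ξ : D.Idx → K} {p m : ℕ} (hp : p.Prime) (hm : A ^ m = 1)
    (h1 : ξ ᵥ* ((A ^ p : GL D.Idx K) : Matrix D.Idx D.Idx K) = ξ)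
    (h2 : ξ ᵥ* (A : Matrix D.Idx D.Idx K) ≠ ξ) : p ∣ m := by
  by_contra hpm
  have hco : Nat.Coprime p m := (Nat.Prime.coprime_iff_not_dvd hp).2 hpm
  have key : ∀ n : ℕ, ξ ᵥ* (((A ^ p) ^ n : GL D.Idx K) : Matrix D.Idx D.Idx K) = ξ := by
    intro n
    induction n with
    | zero => rw [pow_zero, Units.val_one, Matrix.vecMul_one]
    | succ n ih => rw [pow_succ, Units.val_mul, ← Matrix.vecMul_vecMul, ih, h1]
  apply h2
  rcases Nat.eq_zero_or_pos m with h0 | h0
  · subst h0
    rw [Nat.coprime_zero_right] at hco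
    rw [hco, pow_one] at h1
    exact h1
  rcases Nat.lt_or_ge 1 m with h3 | h3
  · obtain ⟨n, hn⟩ := Nat.exists_mul_mod_eq_one_of_coprime hco h3
    have h4 : (A ^ p) ^ n = A := by
      rw [← pow_mul, ← Nat.mod_add_div (p * n) m, pow_add, pow_mul, hm, one_pow, mul_one]
      have : p * n % m = 1 := hn.2
      rw [this, pow_one]
    have := key n
    rwa [h4] at this
  · have h5 : m = 1 := by omega
    rw [h5, pow_one] at hm
    rw [hm, Units.val_one, Matrix.vecMul_one]

/-- **divisibility of the order** -/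
theorem dvd_of_chk (hω : ω ^ 2 + ω + 1 = 0) {w : List (ℕ × ℕ)} {f : ℕ → ℕ} (h : Acts D w f) {p m : ℕ}
    (hp : p.Prime) (hc : chkOrd D f p = true) (hm : wdG ω hD w ^ m = 1) : p ∣ m := by
  unfold chkOrd at hc
  rw [force_eq, Bool.and_eq_true, List.any_eq_true] at hc
  obtain ⟨⟨k, hk, hne⟩, hit⟩ := hc
  have hit' := Nat.eq_of_beq_eq_true hit
  have hfp : itf f p 1 = 1 := by
    obtain ⟨q, rfl⟩ : ∃ q, p = q + 1 := ⟨p - 1, by have := hp.pos; omega⟩
    rw [Nat.add_sub_cancel] at hit'
    show force (f 1) (itf f q) = 1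
    rw [force_eq]
    exact hit'
  refine dvd_of_vec (D := D) (ξ := fun a : D.Idx => val ω 1 (code D a)) hp hm ?_ ?_
  · rw [← wdG_flatten, vecMul_acts hD hω (h.iter p) 1, hfp]
  · rw [vecMul_acts hD hω h 1]
    intro h1
    obtain ⟨a, ha⟩ := exists_code (D := D) (List.mem_range.1 hk)
    have h2 := congrFun h1 a
    rw [ha] at h2
    exact val_ne hω hne h2

end Cfsg.Agent.H891.TE6.Eng
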