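import Cfsg.Agent.H891.TE6.Chk
import Cfsg.Prelude.Def_ChevE6

/-!
# `²E₆(2)`: the letters (generated; helper891)
-/

set_option autoImplicit false

namespace Cfsg.Agent.H891.TE6.Eng

open Cfsg Cfsg.Lie

/-- `0101…01`, 78 fields -/
def M78 : ℕ := 30447950777727144129243434014922562909498594645

theorem msk78 : msk (chevE6.rank + chevE6.nroots) = M78 := by decide +kernel

def l46 : Ltr := ⟨46, 0, 0,
  [(6, 104), (62, 2), (12, 14), (28, 34), (30, 36), (32, 38), (50, 64), (52, 66), (54, 68), (56, 72), (58, 74), (60,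
  76), (90, 106), (92, 108), (94, 110), (98, 112), (100, 114), (102, 116), (128, 134), (130, 136), (132, 138), (152,
  154)],
  [(62, 104)]⟩
theorem l46_eq : mkL chevE6 46 0 = l46 := by decide +kernel

def l39 : Ltr := ⟨39, 0, 0,
  [(2, 90), (4, 90), (8, 90), (76, 6), (14, 16), (24, 28), (26, 30), (38, 40), (46, 50), (48, 52), (60, 62), (68,
  70), (72, 78), (74, 80), (86, 92), (88, 94), (96, 98), (104, 106), (114, 118), (116, 120), (126, 128), (136, 140),
  (138, 142), (150, 152)],
  [(76, 90)]⟩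
theorem l39_eq : mkL chevE6 39 0 = l39 := by decide +kernel

def l42 : Ltr := ⟨42, 0, 0,
  [(0, 96), (6, 96), (70, 4), (16, 22), (18, 24), (20, 26), (40, 42), (50, 56), (52, 58), (54, 60), (64, 72), (66,
  74), (68, 76), (90, 98), (92, 100), (94, 102), (106, 112), (108, 114), (110, 116), (124, 126), (140, 146), (142,
  148), (144, 150)],
  [(70, 96)]⟩
theorem l42_eq : mkL chevE6 42 0 = l42 := by decide +kernel

def l37 : Ltr := ⟨37, 0, 0,
  [(6, 86), (10, 86), (80, 8), (16, 18), (22, 24), (30, 32), (36, 38), (44, 46), (52, 54), (58, 60), (66, 68), (74,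
  76), (78, 82), (84, 88), (90, 92), (98, 100), (106, 108), (112, 114), (120, 122), (128, 130), (134, 136), (142,
  144), (148, 150)],
  [(80, 86)]⟩
theorem l37_eq : mkL chevE6 37 0 = l37 := by decide +kernel

def l56 : Ltr := ⟨56, 0, 0,
  [(4, 124), (42, 0), (22, 44), (24, 46), (26, 48), (28, 50), (30, 52), (32, 54), (34, 64), (36, 66), (38, 68), (40,
  70), (96, 126), (98, 128), (100, 130), (102, 132), (112, 134), (114, 136), (116, 138), (118, 140), (120, 142),
  (122, 144)],
  [(42, 124)]⟩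
theorem l56_eq : mkL chevE6 56 0 = l56 := by decide +kernel

def l36 : Ltr := ⟨36, 0, 0,
  [(8, 84), (82, 10), (18, 20), (24, 26), (28, 30), (34, 36), (46, 48), (50, 52), (56, 58), (64, 66), (72, 74), (78,
  80), (86, 88), (92, 94), (100, 102), (108, 110), (114, 116), (118, 120), (130, 132), (136, 138), (140, 142), (146,
  148)],
  [(82, 84)]⟩
theorem l36_eq : mkL chevE6 36 0 = l36 := by decide +kernel

def l38w1 : Ltr := ⟨38, 1, 2,
  [(6, 88), (8, 88), (10, 88), (78, 8), (78, 10), (16, 20), (22, 26), (28, 32), (34, 38), (44, 48), (50, 54), (56,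
  60), (64, 68), (72, 76), (80, 84), (82, 86), (90, 94), (98, 102), (106, 110), (112, 116), (118, 122), (128, 132),
  (134, 138), (140, 144), (146, 150)],
  [(78, 88)]⟩
theorem l38w1_eq : mkL chevE6 38 1 = l38w1 := by decide +kernel

def l57w2 : Ltr := ⟨57, 2, 1,
  [(0, 126), (4, 126), (6, 126), (40, 0), (40, 4), (16, 44), (18, 46), (20, 48), (28, 56), (30, 58), (32, 60), (34,
  72), (36, 74), (38, 76), (42, 96), (70, 124), (90, 128), (92, 130), (94, 132), (106, 134), (108, 136), (110, 138),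
  (118, 146), (120, 148), (122, 150)],
  [(40, 126)]⟩
theorem l57w2_eq : mkL chevE6 57 2 = l57w2 := by decide +kernel

def l47 : Ltr := ⟨47, 0, 0,
  [(2, 106), (4, 106), (6, 106), (8, 106), (60, 2), (60, 6), (12, 16), (24, 34), (26, 36), (32, 40), (46, 64), (48,
  66), (54, 70), (56, 78), (58, 80), (62, 90), (76, 104), (86, 108), (88, 110), (96, 112), (100, 118), (102, 120),
  (126, 134), (130, 140), (132, 142), (150, 154)],
  [(60, 106)]⟩
theorem l47_eq : mkL chevE6 47 0 = l47 := by decide +kernel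

def l43w1 : Ltr := ⟨43, 1, 2,
  [(0, 98), (2, 98), (4, 98), (6, 98), (8, 98), (68, 4), (68, 6), (14, 22), (18, 28), (20, 30), (38, 42), (46, 56),
  (48, 58), (54, 62), (64, 78), (66, 80), (70, 90), (76, 96), (86, 100), (88, 102), (104, 112), (108, 118), (110,
  120), (124, 128), (136, 146), (138, 148), (144, 152)],
  [(68, 98)]⟩
theorem l43w1_eq : mkL chevE6 43 1 = l43w1 := by decide +kernel

def l40w2 : Ltr := ⟨40, 2, 1,
  [(2, 92), (4, 92), (6, 92), (8, 92), (10, 92), (74, 6), (74, 8), (14, 18), (22, 28), (26, 32), (36, 40), (44, 50),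
  (48, 54), (58, 62), (66, 70), (72, 82), (76, 86), (80, 90), (84, 94), (96, 100), (104, 108), (112, 118), (116,
  122), (126, 130), (134, 140), (138, 144), (148, 152)],
  [(74, 92)]⟩
theorem l40w2_eq : mkL chevE6 40 2 = l40w2 := by decide +kernel

def l5 : Ltr := ⟨5, 0, 0,
  [(0, 22), (4, 22), (8, 22), (144, 0), (144, 2), (144, 4), (144, 10), (54, 12), (68, 14), (70, 16), (86, 24), (88,
  26), (92, 28), (94, 30), (108, 34), (110, 36), (122, 42), (124, 44), (130, 56), (132, 58), (136, 72), (138, 74),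
  (140, 78), (142, 80), (150, 96), (152, 98), (154, 112)],
  [(144, 22)]⟩
theorem l5_eq : mkL chevE6 5 0 = l5 := by decide +kernel

def l5w1 : Ltr := ⟨5, 1, 2,
  [(0, 22), (4, 22), (8, 22), (144, 0), (144, 2), (144, 4), (144, 10), (54, 12), (68, 14), (70, 16), (86, 24), (88,
  26), (92, 28), (94, 30), (108, 34), (110, 36), (122, 42), (124, 44), (130, 56), (132, 58), (136, 72), (138, 74),
  (140, 78), (142, 80), (150, 96), (152, 98), (154, 112)],
  [(144, 22)]⟩
theorem l5w1_eq : mkL chevE6 5 1 = l5w1 := by decide +kernel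

def l5w2 : Ltr := ⟨5, 2, 1,
  [(0, 22), (4, 22), (8, 22), (144, 0), (144, 2), (144, 4), (144, 10), (54, 12), (68, 14), (70, 16), (86, 24), (88,
  26), (92, 28), (94, 30), (108, 34), (110, 36), (122, 42), (124, 44), (130, 56), (132, 58), (136, 72), (138, 74),
  (140, 78), (142, 80), (150, 96), (152, 98), (154, 112)],
  [(144, 22)]⟩
theorem l5w2_eq : mkL chevE6 5 2 = l5w2 := by decide +kernel

def l3 : Ltr := ⟨3, 0, 0,
  [(4, 18), (8, 18), (10, 18), (148, 0), (148, 2), (148, 8), (148, 10), (58, 12), (74, 14), (80, 16), (84, 20), (96,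
  24), (98, 28), (102, 32), (112, 34), (116, 38), (120, 40), (126, 46), (128, 50), (132, 54), (134, 64), (138, 68),
  (142, 70), (146, 82), (150, 86), (152, 92), (154, 108)],
  [(148, 18)]⟩
theorem l3_eq : mkL chevE6 3 0 = l3 := by decide +kernel

def l3w1 : Ltr := ⟨3, 1, 2,
  [(4, 18), (8, 18), (10, 18), (148, 0), (148, 2), (148, 8), (148, 10), (58, 12), (74, 14), (80, 16), (84, 20), (96,
  24), (98, 28), (102, 32), (112, 34), (116, 38), (120, 40), (126, 46), (128, 50), (132, 54), (134, 64), (138, 68),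
  (142, 70), (146, 82), (150, 86), (152, 92), (154, 108)],
  [(148, 18)]⟩
theorem l3w1_eq : mkL chevE6 3 1 = l3w1 := by decide +kernel

def l3w2 : Ltr := ⟨3, 2, 1,
  [(4, 18), (8, 18), (10, 18), (148, 0), (148, 2), (148, 8), (148, 10), (58, 12), (74, 14), (80, 16), (84, 20), (96,
  24), (98, 28), (102, 32), (112, 34), (116, 38), (120, 40), (126, 46), (128, 50), (132, 54), (134, 64), (138, 68),
  (142, 70), (146, 82), (150, 86), (152, 92), (154, 108)],
  [(148, 18)]⟩
theorem l3w2_eq : mkL chevE6 3 2 = l3w2 := by decide +kernel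

def l11 : Ltr := ⟨11, 0, 0,
  [(0, 34), (2, 34), (10, 34), (132, 0), (132, 4), (132, 6), (132, 8), (132, 10), (48, 14), (52, 16), (54, 18), (58,
  22), (60, 24), (62, 28), (84, 36), (88, 38), (94, 40), (102, 42), (124, 64), (126, 72), (128, 78), (130, 82),
  (138, 104), (142, 106), (144, 108), (148, 112), (150, 114), (152, 118)],
  [(132, 34)]⟩
theorem l11_eq : mkL chevE6 11 0 = l11 := by decide +kernel

def l8 : Ltr := ⟨8, 0, 0,
  [(0, 28), (2, 28), (6, 28), (10, 28), (138, 0), (138, 2), (138, 4), (138, 6), (138, 8), (138, 10), (48, 12), (66,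
  16), (68, 18), (74, 22), (76, 24), (84, 30), (88, 32), (104, 34), (110, 40), (116, 42), (124, 50), (126, 56),
  (132, 62), (134, 78), (136, 82), (142, 90), (144, 92), (148, 98), (150, 100), (154, 118)],
  [(138, 28)]⟩
theorem l8_eq : mkL chevE6 8 0 = l8 := by decide +kernel

def l6 : Ltr := ⟨6, 0, 0,
  [(0, 24), (4, 24), (6, 24), (8, 24), (10, 24), (142, 0), (142, 2), (142, 4), (142, 8), (142, 10), (52, 12), (66,
  14), (70, 18), (80, 22), (84, 26), (90, 28), (94, 32), (106, 34), (110, 38), (120, 42), (124, 46), (128, 56),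
  (132, 60), (134, 72), (138, 76), (140, 82), (144, 86), (148, 96), (152, 100), (154, 114)],
  [(142, 24)]⟩
theorem l6_eq : mkL chevE6 6 0 = l6 := by decide +kernel

def l0 : Ltr := ⟨0, 0, 0,
  [(2, 12), (154, 0), (154, 6), (154, 10), (104, 14), (106, 16), (108, 18), (110, 20), (112, 22), (114, 24), (116,
  26), (118, 28), (120, 30), (122, 32), (134, 44), (136, 46), (138, 48), (140, 50), (142, 52), (144, 54), (146, 56),
  (148, 58), (150, 60), (152, 62)],
  [(154, 12)]⟩
theorem l0_eq : mkL chevE6 0 0 = l0 := by decide +kernel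

def l1 : Ltr := ⟨1, 0, 0,
  [(2, 14), (6, 14), (152, 0), (152, 2), (152, 6), (152, 10), (62, 12), (90, 16), (92, 18), (94, 20), (98, 22),
  (100, 24), (102, 26), (118, 34), (120, 36), (122, 38), (128, 44), (130, 46), (132, 48), (140, 64), (142, 66),
  (144, 68), (146, 72), (148, 74), (150, 76), (154, 104)],
  [(152, 14)]⟩
theorem l1_eq : mkL chevE6 1 0 = l1 := by decide +kernel

def l68 : Ltr := ⟨68, 0, 0,
  [(4, 148), (8, 148), (10, 148), (18, 0), (18, 2), (18, 8), (18, 10), (12, 58), (14, 74), (16, 80), (20, 84), (24,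
  96), (28, 98), (32, 102), (34, 112), (38, 116), (40, 120), (46, 126), (50, 128), (54, 132), (64, 134), (68, 138),
  (70, 142), (82, 146), (86, 150), (92, 152), (108, 154)],
  [(18, 148)]⟩
theorem l68_eq : mkL chevE6 68 0 = l68 := by decide +kernel

def l66 : Ltr := ⟨66, 0, 0,
  [(0, 144), (4, 144), (8, 144), (22, 0), (22, 2), (22, 4), (22, 10), (12, 54), (14, 68), (16, 70), (24, 86), (26,
  88), (28, 92), (30, 94), (34, 108), (36, 110), (42, 122), (44, 124), (56, 130), (58, 132), (72, 136), (74, 138),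
  (78, 140), (80, 142), (96, 150), (98, 152), (112, 154)],
  [(22, 144)]⟩
theorem l66_eq : mkL chevE6 66 0 = l66 := by decide +kernel

def l71 : Ltr := ⟨71, 0, 0,
  [(2, 154), (12, 0), (12, 6), (12, 10), (14, 104), (16, 106), (18, 108), (20, 110), (22, 112), (24, 114), (26,
  116), (28, 118), (30, 120), (32, 122), (44, 134), (46, 136), (48, 138), (50, 140), (52, 142), (54, 144), (56,
  146), (58, 148), (60, 150), (62, 152)],
  [(12, 154)]⟩
theorem l71_eq : mkL chevE6 71 0 = l71 := by decide +kernel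

end Cfsg.Agent.H891.TE6.Eng
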