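import Cfsg.Agent.Th.E8Recipe
import Cfsg.Agent.ChevalleyStructure.Elts

/-!
# Words in root elements over the field with four elements (helper891)

A row vector over `K`, `|K| = 4`, is a natural number: coordinate `k` is the pair of bits `2k, 2k+1`, standing for
`b₀ + b₁ ω`, `ω ^ 2 + ω + 1 = 0`.  `step ℓ` is the action of the root element `x_r(ω ^ τ)`, `run` that of a word.

* `vecMul_wdG` : correctness;
* `eq_of_eqw` : equality of words; `Cert` : a word moves a vector in a cycle of prime length.
-/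

set_option autoImplicit false
set_option linter.unusedSectionVars false

namespace Cfsg.Agent.H891.TE6.Eng

open Cfsg Cfsg.Lie Cfsg.Agent.Th.E8Recipe Cfsg.Agent.ChevalleyStructure.Elts
open scoped Matrix

/-- evaluation of the argument first -/
def force {α : Type} (n : ℕ) (f : ℕ → α) : α := Nat.rec (f 0) (fun m _ => f (Nat.succ m)) n

theorem force_eq {α : Type} (n : ℕ) (f : ℕ → α) : force n f = f n := by
  cases n <;> rfl

/-- `0101…01`, `N` fields -/
def msk : ℕ → ℕ
  | 0 => 0
  | n + 1 => 4 * msk n + 1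

theorem msk_even (n k : ℕ) : (msk n).testBit (2 * k) = decide (k < n) := by
  induction n generalizing k with
  | zero => simp [msk]
  | succ n ih =>
    have h1 : msk (n + 1) = 4 * msk n + 1 := rfl
    rcases k with _ | k
    · rw [mul_zero, Nat.testBit_zero, h1]
      have : (4 * msk n + 1) % 2 = 1 := by omega
      rw [this]; simp
    · have h2 : 2 * (k + 1) = (2 * k) + 1 + 1 := by ring
      rw [h2, Nat.testBit_succ, Nat.testBit_succ, h1]
      have : (4 * msk n + 1) / 2 / 2 = msk n := by omega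
      rw [this, ih]
      simp

theorem msk_odd (n k : ℕ) : (msk n).testBit (2 * k + 1) = false := by
  induction n generalizing k with
  | zero => simp [msk]
  | succ n ih =>
    have h1 : msk (n + 1) = 4 * msk n + 1 := rfl
    rcases k with _ | k
    · rw [mul_zero, zero_add, Nat.testBit_succ, Nat.testBit_zero, h1]
      have : (4 * msk n + 1) / 2 % 2 = 0 := by omega
      rw [this]; simp
    · have h2 : 2 * (k + 1) + 1 = (2 * k + 1) + 1 + 1 := by ring
      rw [h2, Nat.testBit_succ, Nat.testBit_succ, h1]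
      have : (4 * msk n + 1) / 2 / 2 = msk n := by omega
      rw [this, ih]

/-- multiplication of all coordinates by `ω` -/
def mulw (M : ℕ) (s : ℕ) : ℕ :=
  force (Nat.land s M) fun a => force (Nat.land (Nat.shiftRight s 1) M) fun b =>
    Nat.xor b (Nat.shiftLeft (Nat.xor a b) 1)

/-- multiplication by `ω ^ τ` -/
def mulp (M : ℕ) : ℕ → ℕ → ℕ
  | 0, s => s
  | t + 1, s => force (mulp M t s) (mulw M)

/-- sum of the coordinates `p.2 / 2` moved to the coordinates `p.1 / 2` -/
def mv (s : ℕ) : List (ℕ × ℕ) → ℕ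
  | [] => 0
  | p :: l => Nat.xor (Nat.shiftLeft (Nat.land (Nat.shiftRight s p.2) 3) p.1) (mv s l)

/-- letters -/
structure Ltr where
  r : ℕ
  t : ℕ
  t2 : ℕ
  l1 : List (ℕ × ℕ)
  l2 : List (ℕ × ℕ)

/-- the action of a letter -/
def step (M : ℕ) (a : Ltr) (s : ℕ) : ℕ :=
  Nat.xor s (Nat.xor (mulp M a.t (mv s a.l1)) (mulp M a.t2 (mv s a.l2)))

/-- the action of a word -/
def run (M : ℕ) : List Ltr → ℕ → ℕ
  | [], s => s
  | a :: w, s => force (step M a s) (run M w)

theorem run_append (N : ℕ) (w w' : List Ltr) (s : ℕ) : run N (w ++ w') s = run N w' (run N w s) := by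
  induction w generalizing s with
  | nil => rfl
  | cons a w ih =>
    rw [List.cons_append]
    show force (step N a s) (run N (w ++ w')) = run N w' (force (step N a s) (run N w))
    rw [force_eq, force_eq, ih]

section val

variable {K : Type*} [Field K] (ω : K)

/-- a bit as an element of `K` -/
def bt (K : Type*) [Field K] (b : Bool) : K := if b then 1 else 0

/-- the coordinate `k` of the vector with code `s` -/
def val (s k : ℕ) : K := bt K (s.testBit (2 * k)) + bt K (s.testBit (2 * k + 1)) * ω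

theorem bt_false : bt K false = 0 := rfl
theorem bt_true : bt K true = 1 := rfl

theorem val_zero (k : ℕ) : val ω 0 k = 0 := by
  unfold val
  rw [Nat.zero_testBit, Nat.zero_testBit, bt_false]
  ring

variable [CharP K 2]

theorem bt_xor (a b : Bool) : bt K (a ^^ b) = bt K a + bt K b := by
  have h1 : (1 : K) + 1 = 0 := CharTwo.add_self_eq_zero 1
  cases a <;> cases b <;> simp [bt, h1]

theorem val_xor (a b k : ℕ) : val ω (Nat.xor a b) k = val ω a k + val ω b k := by
  unfold val
  have e : ∀ i, (Nat.xor a b).testBit i = (a.testBit i ^^ b.testBit i) := fun i => Nat.testBit_xor a b i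
  rw [e, e, bt_xor, bt_xor]
  ring

theorem val_move (s u k0 k : ℕ) :
    val ω (Nat.shiftLeft (Nat.land (Nat.shiftRight s (2 * u)) 3) (2 * k0)) k = if k = k0 then val ω s u else 0 := by
  have e : ∀ i, (Nat.shiftLeft (Nat.land (Nat.shiftRight s (2 * u)) 3) (2 * k0)).testBit i =
      (decide (2 * k0 ≤ i) && (s.testBit (2 * u + (i - 2 * k0)) && Nat.testBit 3 (i - 2 * k0))) := by
    intro i
    have e1 : (Nat.shiftLeft (Nat.land (Nat.shiftRight s (2 * u)) 3) (2 * k0)) =
      ((s >>> (2 * u)) &&& 3) <<< (2 * k0) := rfl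
    rw [e1, Nat.testBit_shiftLeft, Nat.testBit_and, Nat.testBit_shiftRight]
  have e3 : ∀ j, Nat.testBit 3 j = decide (j < 2) := by
    intro j
    rcases j with _ | _ | j
    · rfl
    · rfl
    · rw [Nat.testBit_succ, Nat.testBit_succ]
      have : (3 : ℕ) / 2 / 2 = 0 := rfl
      rw [this, Nat.zero_testBit]
      simp
  unfold val
  rw [e, e, e3, e3]
  by_cases hk : k = k0
  · subst hk
    rw [if_pos rfl]
    have h1 : 2 * u + (2 * k - 2 * k) = 2 * u := by omega
    have h2 : 2 * u + (2 * k + 1 - 2 * k) = 2 * u + 1 := by omega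
    rw [h1, h2]
    have h3 : decide (2 * k ≤ 2 * k) = true := by simp
    have h4 : decide (2 * k ≤ 2 * k + 1) = true := by simp
    have h5 : decide (2 * k - 2 * k < 2) = true := by simp
    have h6 : decide (2 * k + 1 - 2 * k < 2) = true := by simp
    rw [h3, h4, h5, h6]
    simp
  · rw [if_neg hk]
    rcases Nat.lt_or_gt_of_ne hk with h | h
    · have h3 : decide (2 * k0 ≤ 2 * k) = false := by simp; omega
      have h4 : decide (2 * k0 ≤ 2 * k + 1) = false := by simp; omega
      rw [h3, h4]
      simp [bt]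
    · have h5 : decide (2 * k - 2 * k0 < 2) = false := by simp; omega
      have h6 : decide (2 * k + 1 - 2 * k0 < 2) = false := by simp; omega
      rw [h5, h6]
      simp [bt]

variable {ω} (hω : ω ^ 2 + ω + 1 = 0)

include hω

theorem val_mulw {N k : ℕ} (hk : k < N) (s : ℕ) : val ω (mulw (msk N) s) k = ω * val ω s k := by
  have e0 : mulw (msk N) s = ((s >>> 1) &&& msk N) ^^^ (((s &&& msk N) ^^^ ((s >>> 1) &&& msk N)) <<< 1) := by
    unfold mulw
    rw [force_eq, force_eq]
    rfl
  have h1 : (mulw (msk N) s).testBit (2 * k) = s.testBit (2 * k + 1) := by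
    rw [e0, Nat.testBit_xor, Nat.testBit_and, msk_even, Nat.testBit_shiftRight, Nat.testBit_shiftLeft]
    have h2 : decide (k < N) = true := by simp [hk]
    rw [h2, Nat.add_comm 1 (2 * k), Bool.and_true]
    have h3 : (decide (2 * k ≥ 1) &&
        (s &&& msk N ^^^ s >>> 1 &&& msk N).testBit (2 * k - 1)) = false := by
      rcases k with _ | k
      · simp
      · have h4 : 2 * (k + 1) - 1 = 2 * k + 1 := by omega
        rw [h4, Nat.testBit_xor, Nat.testBit_and, Nat.testBit_and, msk_odd]
        simp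
    rw [h3, Bool.xor_false]
  have h2 : (mulw (msk N) s).testBit (2 * k + 1) = (s.testBit (2 * k) ^^ s.testBit (2 * k + 1)) := by
    rw [e0, Nat.testBit_xor, Nat.testBit_and, msk_odd, Bool.and_false, Bool.false_xor, Nat.testBit_shiftLeft]
    have h3 : 2 * k + 1 - 1 = 2 * k := by omega
    rw [h3, Nat.testBit_xor, Nat.testBit_and, Nat.testBit_and, msk_even, Nat.testBit_shiftRight]
    have h4 : decide (k < N) = true := by simp [hk]
    rw [h4, Nat.add_comm 1 (2 * k)]
    simp
  unfold val
  rw [h1, h2, bt_xor]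
  have h3 : ω ^ 2 = ω + 1 := by
    have h4 : ω ^ 2 + (ω + 1) = 0 := by rw [← add_assoc]; exact hω
    exact CharTwo.add_eq_zero.1 h4
  linear_combination (-(bt K (s.testBit (2 * k + 1)))) * h3

theorem val_mulp {N k : ℕ} (hk : k < N) (t s : ℕ) : val ω (mulp (msk N) t s) k = ω ^ t * val ω s k := by
  induction t with
  | zero => rw [pow_zero, one_mul]; rfl
  | succ t ih =>
    show val ω (force (mulp (msk N) t s) (mulw (msk N))) k = _
    rw [force_eq, val_mulw hω hk, ih]
    ring

omit hω in
theorem val_mv (s k : ℕ) (l : List (ℕ × ℕ)) :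
    val ω (mv s (l.map fun p => (2 * p.1, 2 * p.2))) k = (l.map fun p => if k = p.1 then val ω s p.2 else 0).sum := by
  induction l with
  | nil => exact val_zero ω k
  | cons p l ih =>
    rw [List.map_cons, List.map_cons, List.sum_cons, ← ih, ← val_move ω s p.2 p.1 k, ← val_xor]
    rfl

omit [CharP K 2] hω in
theorem pow_three (h : ω ^ 2 + ω + 1 = 0) : ω ^ 3 = 1 := by linear_combination (ω - 1) * h

end val

/-! ### letters -/

/-- the entries of the recipe with odd coefficient and exponent `e` -/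
def odds (D : ChevalleyDatum) (r e : ℕ) : List (ℕ × ℕ) :=
  ((recipe D r).filter fun a => decide (a.2.2.1 % 2 ≠ 0) && decide (a.2.2.2 = e)).map fun a => (a.1, a.2.1)

/-- the letter `x_r(ω ^ t)` -/
def mkL (D : ChevalleyDatum) (r t : ℕ) : Ltr :=
  ⟨r, t, 2 * t % 3, (odds D r 1).map fun p => (2 * p.1, 2 * p.2), (odds D r 2).map fun p => (2 * p.1, 2 * p.2)⟩

/-- side conditions -/
def okL (D : ChevalleyDatum) (r : ℕ) : Bool :=
  decide (r < D.nroots) && good D r &&
    (recipe D r).all fun a => decide (a.2.2.1 % 2 = 0) || (decide (a.2.2.2 = 1) || decide (a.2.2.2 = 2))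

section act

variable {D : ChevalleyDatum} {K : Type*} [Field K] [CharP K 2] {ω : K}

theorem rsum_odd (v : ℕ → K) (t : K) (k : ℕ) (l : List (ℕ × ℕ × ℤ × ℕ))
    (hl : ∀ a ∈ l, a.2.2.1 % 2 = 0 ∨ a.2.2.2 = 1 ∨ a.2.2.2 = 2) :
    rsum v t l k =
      t * (((l.filter fun a => decide (a.2.2.1 % 2 ≠ 0) && decide (a.2.2.2 = 1)).map
        fun a => if k = a.1 then v a.2.1 else 0).sum) +
      t ^ 2 * (((l.filter fun a => decide (a.2.2.1 % 2 ≠ 0) && decide (a.2.2.2 = 2)).map
        fun a => if k = a.1 then v a.2.1 else 0).sum) := by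
  induction l with
  | nil => simp [rsum]
  | cons a l ih =>
    rw [rsum_cons, ih fun b hb => hl b (List.mem_cons_of_mem _ hb)]
    have hc : ((a.2.2.1 : ℤ) : K) = if a.2.2.1 % 2 = 0 then 0 else 1 := by
      have h2 : ((2 : ℤ) : K) = 0 := by
        have := CharP.cast_eq_zero K 2
        exact_mod_cast this
      have h3 := Int.emod_add_mul_ediv a.2.2.1 2
      have h4 : ((a.2.2.1 : ℤ) : K) = ((a.2.2.1 % 2 : ℤ) : K) := by
        conv_lhs => rw [← h3]
        rw [Int.cast_add, Int.cast_mul, h2, zero_mul, add_zero]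
      rw [h4]
      rcases Int.emod_two_eq_zero_or_one a.2.2.1 with h5 | h5
      · rw [h5]; simp
      · rw [h5]; simp
    by_cases h0 : a.2.2.1 % 2 = 0
    · rw [List.filter_cons_of_neg (by simp [h0]), List.filter_cons_of_neg (by simp [h0]), hc, if_pos h0]
      simp
    · rcases hl a List.mem_cons_self with h1 | h1 | h1
      · exact absurd h1 h0
      · rw [List.filter_cons_of_pos (by simp [h0, h1]), List.filter_cons_of_neg (by simp [h1]), hc, if_neg h0,
          List.map_cons, List.sum_cons, h1]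
        by_cases hk : k = a.1
        · rw [if_pos hk, if_pos hk]; ring
        · rw [if_neg hk, if_neg hk]; ring
      · rw [List.filter_cons_of_neg (by simp [h1]), List.filter_cons_of_pos (by simp [h0, h1]), hc, if_neg h0,
          List.map_cons, List.sum_cons, h1]
        by_cases hk : k = a.1
        · rw [if_pos hk, if_pos hk]; ring
        · rw [if_neg hk, if_neg hk]; ring

theorem val_step (hω : ω ^ 2 + ω + 1 = 0) {r : ℕ} (hr : okL D r = true) (t s : ℕ) {k : ℕ}
    (hk : k < D.rank + D.nroots) : val ω (step (msk (D.rank + D.nroots)) (mkL D r t) s) k =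
      val ω s k + rsum (val ω s) (ω ^ t) (recipe D r) k := by
  unfold okL at hr
  rw [Bool.and_eq_true, List.all_eq_true] at hr
  have hl : ∀ a ∈ recipe D r, a.2.2.1 % 2 = 0 ∨ a.2.2.2 = 1 ∨ a.2.2.2 = 2 := by
    intro a ha
    have := hr.2 a ha
    simpa using this
  rw [rsum_odd _ _ _ _ hl]
  unfold step
  rw [val_xor, val_xor, val_mulp hω hk, val_mulp hω hk]
  have e1 : (mkL D r t).l1 = (odds D r 1).map fun p => (2 * p.1, 2 * p.2) := rfl
  have e2 : (mkL D r t).l2 = (odds D r 2).map fun p => (2 * p.1, 2 * p.2) := rfl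
  rw [e1, e2, val_mv, val_mv]
  have e3 : ω ^ (mkL D r t).t2 = (ω ^ t) ^ 2 := by
    show ω ^ (2 * t % 3) = _
    rw [← pow_mul, mul_comm t 2]
    conv_rhs => rw [← Nat.mod_add_div (2 * t) 3, pow_add, pow_mul, pow_three hω, one_pow, mul_one]
  rw [e3]
  unfold odds
  rw [List.map_map, List.map_map]
  rfl

variable (hD : InList D) (ω)

/-- the product of a word of (root, exponent) -/
def wdG (w : List (ℕ × ℕ)) : GL D.Idx K := (w.map fun p => xG hD p.1 (ω ^ p.2)).prod

omit [CharP K 2] in
theorem wdG_append (w w' : List (ℕ × ℕ)) : wdG ω hD (w ++ w') = wdG ω hD w * wdG ω hD w' := by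
  unfold wdG; rw [List.map_append, List.prod_append]

omit [CharP K 2] in
theorem wdG_cons (a : ℕ × ℕ) (w : List (ℕ × ℕ)) : wdG ω hD (a :: w) = xG hD a.1 (ω ^ a.2) * wdG ω hD w := by
  unfold wdG; rw [List.map_cons, List.prod_cons]

/-- the letters of a word -/
def ltrs (D : ChevalleyDatum) (w : List (ℕ × ℕ)) : List Ltr := w.map fun p => mkL D p.1 p.2

variable {ω} (hω : ω ^ 2 + ω + 1 = 0)

include hω

theorem vecMul_wdG : ∀ (w : List (ℕ × ℕ)) (_ : ∀ p ∈ w, okL D p.1 = true) (s : ℕ),
    (fun a : D.Idx => val ω s (code D a)) ᵥ* ((wdG ω hD w : GL D.Idx K) : Matrix D.Idx D.Idx K) =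
      fun a : D.Idx => val ω (run (msk (D.rank + D.nroots)) (ltrs D w) s) (code D a) := by
  intro w
  induction w with
  | nil =>
    intro _ s
    have h : ((wdG ω hD [] : GL D.Idx K) : Matrix D.Idx D.Idx K) = 1 := rfl
    rw [h, Matrix.vecMul_one]
    rfl
  | cons p w ih =>
    intro h s
    have hp := h p List.mem_cons_self
    have hp' := hp
    unfold okL at hp'
    rw [Bool.and_eq_true, Bool.and_eq_true, decide_eq_true_iff] at hp'
    obtain ⟨⟨hr, hg⟩, -⟩ := hp'
    have hx : D.x K p.1 (ω ^ p.2) = D.xMat K ⟨p.1, hr⟩ (ω ^ p.2) := dif_pos hr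
    have h1 : (fun a : D.Idx => val ω s (code D a)) ᵥ* D.x K p.1 (ω ^ p.2) =
        fun a : D.Idx => val ω (step (msk (D.rank + D.nroots)) (mkL D p.1 p.2) s) (code D a) := by
      rw [hx]
      funext a
      have h2 := sum_mul_xMat (D := D) (F := K) (val ω s) (ω ^ p.2) ⟨p.1, hr⟩ hg a
      rw [val_step hω hp p.2 s (code_lt a), ← h2]
      rfl
    rw [wdG_cons, Units.val_mul, ← Matrix.vecMul_vecMul, coe_xG, h1, ih fun q hq => h q (List.mem_cons_of_mem _ hq)]
    have h3 : ltrs D (p :: w) = mkL D p.1 p.2 :: ltrs D w := rfl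
    rw [h3]
    have h4 : ∀ (a : Ltr) (l : List Ltr), run (msk (D.rank + D.nroots)) (a :: l) s =
        run (msk (D.rank + D.nroots)) l (step (msk (D.rank + D.nroots)) a s) := fun a l => by
      show force _ _ = _
      rw [force_eq]
    rw [h4]

end act

end Cfsg.Agent.H891.TE6.Eng
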